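import Groth.Agent.ArtFunLib.Free
import Mathlib.LinearAlgebra.Finsupp.LinearCombination

/-!
# Amalgamated sums of coefficient rings
-/

set_option autoImplicit false
set_option linter.unusedSectionVars false

open CategoryTheory ArtFun ArtFun.Art IsLocalRing

namespace Groth.Agent.ArtFunPush

open Groth.Agent.ArtFunLib

universe u

variable {Λ : Type u} {k : Type u} [CommRing Λ] [Field k] [Algebra Λ k]

/-- The free coefficient ring lifts against coefficient rings. -/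
theorem free_lift {σ : Type u} (F : CRing Λ k) (X : σ → F.carrier) (c : σ → k)
    (hF : ∀ (A : Art Λ k) (b : σ → A), (∀ i, A.res (b i) = c i) →
        ∃! φ : HomSet F.carrier F.res A, ∀ i, φ.1 (X i) = b i)
    (T : CRing Λ k) (b : σ → T.carrier) (hb : ∀ i, T.res (b i) = c i) :
    ∃! g : F.carrier →ₐ[Λ] T.carrier, T.res.comp g = F.res ∧ ∀ i, g (X i) = b i := by
  have h : ∀ n, ∃! φ : HomSet F.carrier F.res (T.trunc n), ∀ i, φ.1 (X i) = (T.truncHom n).1 (b i) :=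
    fun n => hF (T.trunc n) _ fun i => (res_homSet (T.truncHom n) (b i)).trans (hb i)
  choose ψ hψ huniq using h
  obtain ⟨g, hg, hgψ⟩ := exists_lift_trunc ψ fun n => huniq n _ fun i => by
    show T.truncMap n ((ψ (n + 1)).1 (X i)) = _
    rw [hψ (n + 1) i]
    rfl
  refine ⟨g, ⟨hg, fun i => eq_of_forall_truncHom fun n => by rw [hgψ, hψ]⟩, fun g' ⟨hg', hg''⟩ => ?_⟩
  refine algHom_ext_trunc fun n s => ?_
  rw [hgψ]
  have := huniq n ⟨(T.truncHom n).1.comp g', AlgHom.ext fun a => by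
    show (T.trunc n).res ((T.truncHom n).1 (g' a)) = F.res a
    rw [res_homSet (T.truncHom n), ← AlgHom.comp_apply, hg']⟩ (fun i => by
      show (T.truncHom n).1 (g' (X i)) = _
      rw [hg''])
  exact DFunLike.congr_fun (congrArg Subtype.val this) s

variable [IsNoetherianRing Λ] [Module.Finite Λ k]

/-- Every coefficient ring is a quotient of a free one. -/
theorem exists_generators (S : CRing Λ k) :
    ∃ (σ : Type u) (_ : Finite σ) (b : σ → S.carrier),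
      Algebra.adjoin Λ (Set.range fun i => S.res (b i)) = ⊤ ∧
      ∀ (F : CRing Λ k) (X : σ → F.carrier) (p : F.carrier →ₐ[Λ] S.carrier),
        S.res.comp p = F.res → (∀ i, p (X i) = b i) → Function.Surjective p := by
  classical
  obtain ⟨r, c, hc⟩ := exists_residue_generators (Λ := Λ) (k := k)
  choose lift hlift using S.res_surjective
  obtain ⟨s, hs⟩ := IsNoetherian.noetherian (maximalIdeal S.carrier)
  refine ⟨ULift.{u} (Fin r) ⊕ s, inferInstance, Sum.elim (fun i => lift (c i.down)) (fun x => x.1),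
    ?_, fun F X p hp hX => ?_⟩
  · refine eq_top_iff.mpr (hc ▸ Algebra.adjoin_mono ?_)
    rintro _ ⟨i, rfl⟩
    exact ⟨.inl ⟨i⟩, hlift (c i)⟩
  · refine surjective_of_surjective_sq p hp fun q => ?_
    obtain ⟨a, rfl⟩ := truncHom_surjective 1 q
    have hres : ∀ z : S.carrier, ∃ f : F.carrier, z - p f ∈ maximalIdeal S.carrier := by
      intro z
      have hz : S.res z ∈ (MvPolynomial.aeval c : MvPolynomial (Fin r) Λ →ₐ[Λ] k).range := by
        rw [← Algebra.adjoin_range_eq_range_aeval, hc]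
        trivial
      obtain ⟨P, hP⟩ := hz
      refine ⟨MvPolynomial.aeval (fun i => X (.inl ⟨i⟩)) P, ?_⟩
      rw [CRing.mem_maximalIdeal_iff, map_sub, sub_eq_zero, ← hP]
      have e : ((S.res.comp p).comp (MvPolynomial.aeval fun i => X (.inl ⟨i⟩))) =
          (MvPolynomial.aeval c : MvPolynomial (Fin r) Λ →ₐ[Λ] k) := MvPolynomial.algHom_ext fun i => by
        simp [hX, hlift]
      exact (DFunLike.congr_fun e P).symm
    obtain ⟨f₀, hf₀⟩ := hres a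
    rw [← hs, Submodule.mem_span_finset'] at hf₀
    obtain ⟨y, hy⟩ := hf₀
    choose f hf using fun x : s => hres (y x)
    refine ⟨f₀ + ∑ x : s, f x * X (.inr x), ?_⟩
    refine sub_eq_zero.mp ?_
    show (S.truncHom 1).1 (p (f₀ + ∑ x : s, f x * X (.inr x))) - (S.truncHom 1).1 a = 0
    rw [← map_sub, truncHom_eq_zero_iff]
    have e : p (f₀ + ∑ x : s, f x * X (.inr x)) - a = ∑ x : s, (p (f x) - y x) * (x : S.carrier) := by
      simp only [smul_eq_mul] at hy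
      rw [map_add, map_sum]
      simp only [map_mul, hX, Sum.elim_inr, sub_mul, Finset.sum_sub_distrib, hy]
      ring
    rw [e, sq]
    refine sum_mem fun x _ => Ideal.mul_mem_mul ?_ (hs ▸ Submodule.subset_span x.2)
    rw [← neg_sub]
    exact neg_mem (hf x)

/-- Amalgamated sums of coefficient rings. -/
theorem exists_amalgam (S₁ S₂ : CRing Λ k) (E : Set (S₁.carrier × S₂.carrier))
    (hE : ∀ e ∈ E, S₁.res e.1 = S₂.res e.2) :
    ∃ (P : CRing Λ k) (i₁ : S₁.carrier →ₐ[Λ] P.carrier) (i₂ : S₂.carrier →ₐ[Λ] P.carrier),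
      P.res.comp i₁ = S₁.res ∧ P.res.comp i₂ = S₂.res ∧ (∀ e ∈ E, i₁ e.1 = i₂ e.2) ∧
      ∀ (T : CRing Λ k) (g₁ : S₁.carrier →ₐ[Λ] T.carrier) (g₂ : S₂.carrier →ₐ[Λ] T.carrier),
        T.res.comp g₁ = S₁.res → T.res.comp g₂ = S₂.res → (∀ e ∈ E, g₁ e.1 = g₂ e.2) →
          ∃! h : P.carrier →ₐ[Λ] T.carrier,
            T.res.comp h = P.res ∧ h.comp i₁ = g₁ ∧ h.comp i₂ = g₂ := by
  classical
  obtain ⟨σ₁, _, b₁, hc₁, hgen₁⟩ := exists_generators S₁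
  obtain ⟨σ₂, _, b₂, hc₂, hgen₂⟩ := exists_generators S₂
  obtain ⟨F₁, X₁, hX₁, hF₁⟩ := exists_free σ₁ (fun i => S₁.res (b₁ i)) hc₁
  obtain ⟨F₂, X₂, hX₂, hF₂⟩ := exists_free σ₂ (fun i => S₂.res (b₂ i)) hc₂
  let c : σ₁ ⊕ σ₂ → k := Sum.elim (fun i => S₁.res (b₁ i)) (fun i => S₂.res (b₂ i))
  have hc : Algebra.adjoin Λ (Set.range c) = ⊤ := by
    refine eq_top_iff.mpr (hc₁ ▸ Algebra.adjoin_mono ?_)
    rintro _ ⟨i, rfl⟩
    exact ⟨.inl i, rfl⟩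
  obtain ⟨F, X, hX, hF⟩ := exists_free (σ₁ ⊕ σ₂) c hc
  obtain ⟨p₁, ⟨hp₁, hp₁X⟩, hp₁u⟩ := free_lift F₁ X₁ _ hF₁ S₁ b₁ (fun i => rfl)
  obtain ⟨p₂, ⟨hp₂, hp₂X⟩, hp₂u⟩ := free_lift F₂ X₂ _ hF₂ S₂ b₂ (fun i => rfl)
  obtain ⟨ι₁, ⟨hι₁, hι₁X⟩, -⟩ := free_lift F₁ X₁ _ hF₁ F (fun i => X (.inl i)) (fun i => hX _)
  obtain ⟨ι₂, ⟨hι₂, hι₂X⟩, -⟩ := free_lift F₂ X₂ _ hF₂ F (fun i => X (.inr i)) (fun i => hX _)
  have hs₁ := hgen₁ F₁ X₁ p₁ hp₁ hp₁X
  have hs₂ := hgen₂ F₂ X₂ p₂ hp₂ hp₂X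
  let G : Set F.carrier := (ι₁ '' (RingHom.ker p₁ : Ideal F₁.carrier)) ∪
    (ι₂ '' (RingHom.ker p₂ : Ideal F₂.carrier)) ∪
    {z | ∃ a a', (p₁ a, p₂ a') ∈ E ∧ z = ι₁ a - ι₂ a'}
  have hJ : Ideal.span G ≤ maximalIdeal F.carrier := by
    rw [Ideal.span_le]
    rintro z ((⟨a, ha, rfl⟩ | ⟨a, ha, rfl⟩) | ⟨a, a', ha, rfl⟩)
    · rw [SetLike.mem_coe, CRing.mem_maximalIdeal_iff, res_comp_apply hι₁, ← res_comp_apply hp₁,
        (RingHom.mem_ker.mp ha : p₁ a = 0), map_zero]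
    · rw [SetLike.mem_coe, CRing.mem_maximalIdeal_iff, res_comp_apply hι₂, ← res_comp_apply hp₂,
        (RingHom.mem_ker.mp ha : p₂ a = 0), map_zero]
    · rw [SetLike.mem_coe, CRing.mem_maximalIdeal_iff, map_sub, res_comp_apply hι₁, res_comp_apply hι₂,
        ← res_comp_apply hp₁, ← res_comp_apply hp₂, sub_eq_zero]
      exact hE _ ha
  let P := quotCRing F (Ideal.span G) hJ
  let π := quotProj F (Ideal.span G) hJ
  have hπ : P.res.comp π = F.res := res_comp_quotProj F _ hJ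
  have hk₁ : RingHom.ker p₁.toRingHom ≤ RingHom.ker (π.comp ι₁).toRingHom := fun a ha =>
    RingHom.mem_ker.mpr ((quotProj_eq_zero_iff F _ hJ _).mpr
      (Ideal.subset_span (.inl (.inl ⟨a, ha, rfl⟩))))
  have hk₂ : RingHom.ker p₂.toRingHom ≤ RingHom.ker (π.comp ι₂).toRingHom := fun a ha =>
    RingHom.mem_ker.mpr ((quotProj_eq_zero_iff F _ hJ _).mpr
      (Ideal.subset_span (.inl (.inr ⟨a, ha, rfl⟩))))
  let i₁ : S₁.carrier →ₐ[Λ] P.carrier := AlgHom.liftOfSurjective p₁ hs₁ (π.comp ι₁) hk₁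
  let i₂ : S₂.carrier →ₐ[Λ] P.carrier := AlgHom.liftOfSurjective p₂ hs₂ (π.comp ι₂) hk₂
  have hi₁ : ∀ a, i₁ (p₁ a) = π (ι₁ a) := fun a => AlgHom.liftOfSurjective_apply _ _ _ _ _
  have hi₂ : ∀ a, i₂ (p₂ a) = π (ι₂ a) := fun a => AlgHom.liftOfSurjective_apply _ _ _ _ _
  have hr₁ : P.res.comp i₁ = S₁.res := AlgHom.ext fun z => by
    obtain ⟨a, rfl⟩ := hs₁ z
    rw [AlgHom.comp_apply, hi₁, res_comp_apply hπ, res_comp_apply hι₁, res_comp_apply hp₁]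
  have hr₂ : P.res.comp i₂ = S₂.res := AlgHom.ext fun z => by
    obtain ⟨a, rfl⟩ := hs₂ z
    rw [AlgHom.comp_apply, hi₂, res_comp_apply hπ, res_comp_apply hι₂, res_comp_apply hp₂]
  refine ⟨P, i₁, i₂, hr₁, hr₂, ?_, fun T g₁ g₂ hg₁ hg₂ hgE => ?_⟩
  · rintro ⟨x, y⟩ he
    obtain ⟨a, rfl⟩ := hs₁ x
    obtain ⟨a', rfl⟩ := hs₂ y
    rw [hi₁, hi₂, ← sub_eq_zero, ← map_sub]
    exact (quotProj_eq_zero_iff F _ hJ _).mpr (Ideal.subset_span (.inr ⟨a, a', he, rfl⟩))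
  obtain ⟨H, ⟨hH, hHX⟩, hHu⟩ := free_lift F X c hF T
    (Sum.elim (fun i => g₁ (b₁ i)) (fun i => g₂ (b₂ i))) (by
      rintro (i | i)
      · exact res_comp_apply hg₁ _
      · exact res_comp_apply hg₂ _)
  obtain ⟨q₁, -, hq₁u⟩ := free_lift F₁ X₁ _ hF₁ T (fun i => g₁ (b₁ i)) (fun i => res_comp_apply hg₁ _)
  obtain ⟨q₂, -, hq₂u⟩ := free_lift F₂ X₂ _ hF₂ T (fun i => g₂ (b₂ i)) (fun i => res_comp_apply hg₂ _)
  have e₁ : H.comp ι₁ = g₁.comp p₁ :=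
    (hq₁u _ ⟨by rw [← AlgHom.comp_assoc, hH, hι₁], fun i => by
      rw [AlgHom.comp_apply, hι₁X, hHX, Sum.elim_inl]⟩).trans
    (hq₁u _ ⟨by rw [← AlgHom.comp_assoc, hg₁, hp₁], fun i => by rw [AlgHom.comp_apply, hp₁X]⟩).symm
  have e₂ : H.comp ι₂ = g₂.comp p₂ :=
    (hq₂u _ ⟨by rw [← AlgHom.comp_assoc, hH, hι₂], fun i => by
      rw [AlgHom.comp_apply, hι₂X, hHX, Sum.elim_inr]⟩).trans
    (hq₂u _ ⟨by rw [← AlgHom.comp_assoc, hg₂, hp₂], fun i => by rw [AlgHom.comp_apply, hp₂X]⟩).symm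
  have hker : ∀ z ∈ Ideal.span G, H z = 0 := by
    intro z hz
    refine RingHom.mem_ker.mp ((Ideal.span_le.mpr ?_ : Ideal.span G ≤ RingHom.ker H) hz)
    rintro w ((⟨a, ha, rfl⟩ | ⟨a, ha, rfl⟩) | ⟨a, a', ha, rfl⟩)
    · rw [SetLike.mem_coe, RingHom.mem_ker, ← AlgHom.comp_apply, e₁, AlgHom.comp_apply,
        (RingHom.mem_ker.mp ha : p₁ a = 0), map_zero]
    · rw [SetLike.mem_coe, RingHom.mem_ker, ← AlgHom.comp_apply, e₂, AlgHom.comp_apply,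
        (RingHom.mem_ker.mp ha : p₂ a = 0), map_zero]
    · rw [SetLike.mem_coe, RingHom.mem_ker, map_sub, ← AlgHom.comp_apply H ι₁, ← AlgHom.comp_apply H ι₂,
        e₁, e₂, AlgHom.comp_apply, AlgHom.comp_apply, sub_eq_zero]
      exact hgE _ ha
  let h : P.carrier →ₐ[Λ] T.carrier := Ideal.Quotient.liftₐ _ H hker
  have hh : ∀ z, h (π z) = H z := fun z => rfl
  refine ⟨h, ⟨AlgHom.ext fun z => ?_, AlgHom.ext fun z => ?_, AlgHom.ext fun z => ?_⟩, ?_⟩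
  · obtain ⟨a, rfl⟩ := quotProj_surjective F _ hJ z
    show T.res (H a) = P.res (π a)
    rw [res_comp_apply hH, res_comp_apply hπ]
  · obtain ⟨a, rfl⟩ := hs₁ z
    rw [AlgHom.comp_apply, hi₁, hh, ← AlgHom.comp_apply, e₁, AlgHom.comp_apply]
  · obtain ⟨a, rfl⟩ := hs₂ z
    rw [AlgHom.comp_apply, hi₂, hh, ← AlgHom.comp_apply, e₂, AlgHom.comp_apply]
  · rintro h' ⟨h'r, h'1, h'2⟩
    have : h'.comp π = H := hHu _ ⟨by rw [← AlgHom.comp_assoc, h'r, hπ], by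
      rintro (i | i)
      · rw [AlgHom.comp_apply, ← hι₁X, ← hi₁, ← AlgHom.comp_apply h' i₁, h'1, hp₁X]; rfl
      · rw [AlgHom.comp_apply, ← hι₂X, ← hi₂, ← AlgHom.comp_apply h' i₂, h'2, hp₂X]; rfl⟩
    refine AlgHom.ext fun z => ?_
    obtain ⟨a, rfl⟩ := quotProj_surjective F _ hJ z
    exact DFunLike.congr_fun this a

end Groth.Agent.ArtFunPush
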