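import Groth.Agent.ArtFunLib.FibreProd
import Groth.Agent.ArtFunLib.PS
import Mathlib.RingTheory.Henselian
import Mathlib.FieldTheory.Separable
import Mathlib.Algebra.Polynomial.Lifts
import Mathlib.Algebra.Polynomial.Identities

/-!
# Fibre products when the residue field is separable
-/

set_option autoImplicit false
set_option linter.unusedSectionVars false

open CategoryTheory ArtFun ArtFun.Art IsLocalRing Polynomial

namespace Groth.Agent.ArtFunPush

open Groth.Agent.ArtFunLib

universe u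

variable {Λ : Type u} {k : Type u} [CommRing Λ] [Field k] [Algebra Λ k]

/-- A monic polynomial over `Λ` with a prescribed simple root in `k`. -/
theorem exists_monic [Algebra.IsSeparable (↥(algebraMap Λ k).range) k] (c : k) :
    ∃ g : Λ[X], g.Monic ∧ aeval c g = 0 ∧ aeval c (derivative g) ≠ 0 := by
  have hint : IsIntegral (↥(algebraMap Λ k).range) c := Algebra.IsSeparable.isIntegral _ c
  have hsep : (minpoly (↥(algebraMap Λ k).range) c).Separable := Algebra.IsSeparable.isSeparable _ c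
  obtain ⟨g, hg, -, hgm⟩ := lifts_and_natDegree_eq_and_monic
    (f := (algebraMap Λ k).rangeRestrict) (p := minpoly (↥(algebraMap Λ k).range) c)
    ((lifts_iff_coeff_lifts _).mpr fun _ => RingHom.rangeRestrict_surjective _ _) (minpoly.monic hint)
  have e : ∀ q : Λ[X], aeval c q = aeval c (q.map (algebraMap Λ k).rangeRestrict) := fun q => by
    rw [aeval_def, aeval_def, eval₂_map]
    rfl
  refine ⟨g, hgm, by rw [e, hg, minpoly.aeval], ?_⟩
  rw [e, ← derivative_map, hg]
  exact hsep.aeval_derivative_ne_zero (minpoly.aeval _ c)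

theorem aeval_res (A : Art Λ k) (g : Λ[X]) (a : A) : A.res (aeval a g) = aeval (A.res a) g :=
  (aeval_algHom_apply A.res a g).symm

/-- Hensel's lemma. -/
theorem exists_root (A : Art Λ k) (g : Λ[X]) (hg : g.Monic) (c : k)
    (h0 : aeval c g = 0) (h1 : aeval c (derivative g) ≠ 0) :
    ∃ a : A, A.res a = c ∧ aeval a g = 0 := by
  obtain ⟨a₀, rfl⟩ := A.res_surjective c
  have := isAdicComplete_art A
  have hH : HenselianLocalRing A :=
    { is_henselian := fun f hf a₁ ha hd =>
        HenselianRing.is_henselian (I := maximalIdeal A) f hf a₁ ha (hd.map _) }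
  obtain ⟨a, ha, ha'⟩ := HenselianLocalRing.is_henselian (g.map (algebraMap Λ A)) (hg.map _) a₀
    (by rw [eval_map_algebraMap, A.mem_maximalIdeal_iff, aeval_res, h0])
    (by
      rw [derivative_map, eval_map_algebraMap]
      by_contra hn
      refine h1 ?_
      rw [← aeval_res]
      exact (A.mem_maximalIdeal_iff _).mp ((mem_maximalIdeal _).mpr hn))
  refine ⟨a, ?_, by rw [← eval_map_algebraMap]; exact ha⟩
  rw [← sub_eq_zero, ← map_sub]
  exact (A.mem_maximalIdeal_iff _).mp ha'

/-- Simple roots are determined by their residues. -/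
theorem root_unique (A : Art Λ k) (g : Λ[X]) {c : k} (h1 : aeval c (derivative g) ≠ 0) {a b : A}
    (ha : A.res a = c) (hb : A.res b = c) (ha' : aeval a g = 0) (hb' : aeval b g = 0) : a = b := by
  obtain ⟨t, ht⟩ := binomExpansion (g.map (algebraMap Λ A)) a (b - a)
  rw [add_sub_cancel, eval_map_algebraMap, eval_map_algebraMap, derivative_map, eval_map_algebraMap,
    ha', hb', zero_add, sq, ← mul_assoc, ← add_mul] at ht
  have hu : IsUnit (aeval a (derivative g) + t * (b - a)) := by
    by_contra hn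
    have h := (A.mem_maximalIdeal_iff _).mp ((mem_maximalIdeal _).mpr hn)
    rw [map_add, map_mul, map_sub, ha, hb, sub_self, mul_zero, add_zero, aeval_res, ha] at h
    exact h1 h
  exact (sub_eq_zero.mp (hu.mul_right_eq_zero.mp ht.symm)).symm

section Exists

variable [Module.Finite Λ k]

/-- Fibre products over a surjection exist. -/
theorem exists_fibreProd_sep {A A₁ A₂ : Art Λ k} (f₁ : A₁ ⟶ A) (f₂ : A₂ ⟶ A) [Algebra.IsSeparable (↥(algebraMap Λ k).range) k] :
    ∃ (B : Art Λ k) (p₁ : B ⟶ A₁) (p₂ : B ⟶ A₂), IsFibreProd p₁ p₂ f₁ f₂ := by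
  let S : Subalgebra Λ (A₁ × A₂) :=
    AlgHom.equalizer (f₁.toAlgHom.comp (AlgHom.fst Λ A₁ A₂)) (f₂.toAlgHom.comp (AlgHom.snd Λ A₁ A₂))
  have hmem : ∀ x : A₁ × A₂, x ∈ S ↔ f₁ x.1 = f₂ x.2 := fun x => Iff.rfl
  let π₁ : S →ₐ[Λ] A₁ := (AlgHom.fst Λ A₁ A₂).comp S.val
  let π₂ : S →ₐ[Λ] A₂ := (AlgHom.snd Λ A₁ A₂).comp S.val
  have hres : ∀ s : S, A₁.res (π₁ s) = A₂.res (π₂ s) := fun s => by
    rw [← res_app f₁ (π₁ s), ← res_app f₂ (π₂ s)]
    exact congrArg A.res s.2
  have hunit : ∀ s : S, IsUnit s ↔ IsUnit (π₁ s) := by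
    intro s
    refine ⟨fun h => h.map π₁, fun h => ?_⟩
    have h2 : IsUnit (π₂ s) := by
      by_contra hn
      have h0 := (A₂.mem_maximalIdeal_iff _).mp ((mem_maximalIdeal _).mpr hn)
      rw [← hres, ← A₁.mem_maximalIdeal_iff] at h0
      exact (mem_maximalIdeal _).mp h0 h
    obtain ⟨a, ha⟩ := h.exists_right_inv
    obtain ⟨b, hb⟩ := h2.exists_right_inv
    have hS : (a, b) ∈ S := by
      rw [hmem]
      have hs : f₁ (π₁ s) = f₂ (π₂ s) := s.2
      have e1 : f₁ (π₁ s) * f₁ a = 1 := by rw [← map_mul, ha, map_one]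
      have e2 : f₂ (π₂ s) * f₂ b = 1 := by rw [← map_mul, hb, map_one]
      rw [← hs] at e2
      exact (h.map f₁.toAlgHom).mul_left_cancel (e1.trans e2.symm)
    exact IsUnit.of_mul_eq_one (⟨(a, b), hS⟩ : S) (Subtype.ext (Prod.ext ha hb))
  have : Nontrivial S := ⟨⟨0, 1, fun h => zero_ne_one (α := A₁) (congrArg π₁ h |>.trans (map_one π₁) |>.symm.trans (map_zero π₁) |>.symm)⟩⟩
  have : IsLocalRing S := IsLocalRing.of_nonunits_add fun x y hx hy => by
    simp only [mem_nonunits_iff, hunit] at hx hy ⊢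
    rw [map_add]
    exact IsLocalRing.nonunits_add hx hy
  have := isArtinian_art (k := k) A₁
  have := isArtinian_art (k := k) A₂
  have hArt : IsArtinian Λ S := isArtinian_of_injective S.val.toLinearMap Subtype.val_injective
  have : IsArtinianRing S := isArtinian_of_tower Λ hArt
  have hsurj : Function.Surjective (A₁.res.comp π₁) := fun c => by
    obtain ⟨g, hg, hg0, hg1⟩ := exists_monic (Λ := Λ) c
    obtain ⟨a, ha, ha'⟩ := exists_root A₁ g hg c hg0 hg1
    obtain ⟨b, hb, hb'⟩ := exists_root A₂ g hg c hg0 hg1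
    refine ⟨⟨(a, b), (hmem _).mpr (root_unique A g hg1 ?_ ?_ ?_ ?_)⟩, ha⟩
    · rw [res_app, ha]
    · rw [res_app, hb]
    · exact (Polynomial.aeval_algHom_apply f₁.toAlgHom a g).trans (by rw [ha', map_zero])
    · exact (Polynomial.aeval_algHom_apply f₂.toAlgHom b g).trans (by rw [hb', map_zero])
  refine ⟨Art.of S (A₁.res.comp π₁) hsurj, homMk π₁ rfl, homMk π₂ (AlgHom.ext fun s => (hres s).symm),
    ⟨Art.hom_ext (AlgHom.ext fun s => s.2), fun x y h1 h2 => Subtype.ext (Prod.ext h1 h2),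
      fun a b h => ⟨⟨(a, b), (hmem _).mpr h⟩, rfl, rfl⟩⟩⟩

end Exists

end Groth.Agent.ArtFunPush
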